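import Mathlib
import Groth.Prelude.Def_HopfRep

/-!
# Matrix corepresentations of a bialgebra and the comodule algebra they define (helper84)
-/

set_option autoImplicit false
set_option linter.unusedSectionVars false
universe u v w w'
open TensorProduct

namespace Groth.Agent.Lib.Helper84.Weitz

section Defs

variable (k : Type u) [CommRing k] {O : Type v} [CommRing O] [Bialgebra k O]
  {ι : Type w} [Fintype ι] [DecidableEq ι]

/-- `m` is a matrix corepresentation. -/
structure IsCorep (m : Matrix ι ι O) : Prop where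
  comul : ∀ i j, CoalgebraStruct.comul (R := k) (m i j) = ∑ l, m i l ⊗ₜ[k] m l j
  counit : ∀ i j, CoalgebraStruct.counit (R := k) (m i j) = if i = j then (1 : k) else 0

variable {k}

theorem isCorep_iff (m : Matrix ι ι O) :
    IsCorep k m ↔
      (m.map (Bialgebra.comulAlgHom k O) =
        m.map (Algebra.TensorProduct.includeLeft : O →ₐ[k] O ⊗[k] O) *
          m.map (Algebra.TensorProduct.includeRight : O →ₐ[k] O ⊗[k] O)) ∧
      m.map (Bialgebra.counitAlgHom k O) = 1 := by
  constructor
  · intro h
    refine ⟨?_, ?_⟩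
    · ext i j
      rw [Matrix.map_apply, Bialgebra.comulAlgHom_apply, h.comul, Matrix.mul_apply]
      refine Finset.sum_congr rfl fun l _ => ?_
      simp [Algebra.TensorProduct.tmul_mul_tmul]
    · ext i j
      rw [Matrix.map_apply, Bialgebra.counitAlgHom_apply, h.counit, Matrix.one_apply]
  · rintro ⟨h1, h2⟩
    refine ⟨fun i j => ?_, fun i j => ?_⟩
    · have := congrFun (congrFun h1 i) j
      rw [Matrix.map_apply, Bialgebra.comulAlgHom_apply, Matrix.mul_apply] at this
      rw [this]
      refine Finset.sum_congr rfl fun l _ => ?_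
      simp [Algebra.TensorProduct.tmul_mul_tmul]
    · have := congrFun (congrFun h2 i) j
      rw [Matrix.map_apply, Bialgebra.counitAlgHom_apply, Matrix.one_apply] at this
      exact this

theorem map_algebraMap_map {B : Type*} [CommRing B] [Algebra k B] {κ κ' : Type*}
    (P : Matrix κ κ' k) (f : O →ₐ[k] B) :
    (P.map (algebraMap k O)).map f = P.map (algebraMap k B) := by
  ext i j
  simp

theorem map_algebraMap_self {κ κ' : Type*} (N : Matrix κ κ' k) : N.map (algebraMap k k) = N := by
  ext i j
  simp

/-- conjugating a corepresentation by constant matrices. -/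
theorem IsCorep.conj {ι' : Type w'} [Fintype ι'] [DecidableEq ι'] {m : Matrix ι ι O}
    (hm : IsCorep k m) (P : Matrix ι' ι k) (Q : Matrix ι ι' k) (hPQ : P * Q = 1) (hQP : Q * P = 1) :
    IsCorep k (P.map (algebraMap k O) * m * Q.map (algebraMap k O)) := by
  rw [isCorep_iff] at hm ⊢
  obtain ⟨h1, h2⟩ := hm
  have e1 : ∀ f : O →ₐ[k] O ⊗[k] O,
      (P.map (algebraMap k O) * m * Q.map (algebraMap k O)).map f =
        P.map (algebraMap k (O ⊗[k] O)) * m.map f * Q.map (algebraMap k (O ⊗[k] O)) := by
    intro f
    have := Matrix.map_mul (L := P.map (algebraMap k O) * m) (M := Q.map (algebraMap k O))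
      (f := (f : O →+* O ⊗[k] O))
    have h' := Matrix.map_mul (L := P.map (algebraMap k O)) (M := m)
      (f := (f : O →+* O ⊗[k] O))
    have hP := map_algebraMap_map P f
    have hQ := map_algebraMap_map Q f
    simp only [AlgHom.coe_toRingHom, RingHom.coe_coe] at this h'
    rw [this, h', hP, hQ]
  refine ⟨?_, ?_⟩
  · rw [e1, e1, e1, h1]
    have hmid : Q.map (algebraMap k (O ⊗[k] O)) * P.map (algebraMap k (O ⊗[k] O)) = 1 := by
      rw [← Matrix.map_mul, hQP, Matrix.map_one _ (map_zero _) (map_one _)]
    have key : ∀ (A : Matrix ι' ι (O ⊗[k] O)) (B C : Matrix ι ι (O ⊗[k] O))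
        (D : Matrix ι ι' (O ⊗[k] O)) (E : Matrix ι' ι (O ⊗[k] O)) (F : Matrix ι ι' (O ⊗[k] O)),
        D * E = 1 → A * (B * C) * F = A * B * D * (E * C * F) := by
      intro A B C D E F h
      calc A * (B * C) * F = A * B * (1 : Matrix ι ι (O ⊗[k] O)) * (C * F) := by
            simp only [Matrix.mul_one, Matrix.mul_assoc]
        _ = _ := by
            rw [← h]
            simp only [Matrix.mul_assoc]
    exact key _ _ _ _ _ _ hmid
  · have := Matrix.map_mul (L := P.map (algebraMap k O) * m) (M := Q.map (algebraMap k O))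
      (f := ((Bialgebra.counitAlgHom k O) : O →+* k))
    have h' := Matrix.map_mul (L := P.map (algebraMap k O)) (M := m)
      (f := ((Bialgebra.counitAlgHom k O) : O →+* k))
    have hP := map_algebraMap_map P (Bialgebra.counitAlgHom k O)
    have hQ := map_algebraMap_map Q (Bialgebra.counitAlgHom k O)
    simp only [AlgHom.coe_toRingHom, RingHom.coe_coe] at this h'
    rw [this, h', hP, hQ, h2, Matrix.mul_one]
    rw [map_algebraMap_self, map_algebraMap_self, hPQ]

/-- block diagonal sums of corepresentations. -/
theorem IsCorep.blockDiagonal' {o : Type w'} [Fintype o] [DecidableEq o] {κ : o → Type w}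
    [∀ i, Fintype (κ i)] [∀ i, DecidableEq (κ i)] (B : ∀ i, Matrix (κ i) (κ i) O)
    (hB : ∀ i, IsCorep k (B i)) : IsCorep k (Matrix.blockDiagonal' B) := by
  rw [isCorep_iff]
  have hB' := fun i => (isCorep_iff (B i)).1 (hB i)
  refine ⟨?_, ?_⟩
  · have e1 := Matrix.blockDiagonal'_map B (⇑(Bialgebra.comulAlgHom k O)) (map_zero _)
    have e2 := Matrix.blockDiagonal'_map B
      (⇑(Algebra.TensorProduct.includeLeft : O →ₐ[k] O ⊗[k] O)) (map_zero _)
    have e3 := Matrix.blockDiagonal'_map B
      (⇑(Algebra.TensorProduct.includeRight : O →ₐ[k] O ⊗[k] O)) (map_zero _)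
    rw [e1, e2, e3, ← Matrix.blockDiagonal'_mul]
    congr 1
    funext i
    exact (hB' i).1
  · rw [Matrix.blockDiagonal'_map B (⇑(Bialgebra.counitAlgHom k O)) (map_zero _)]
    have : (fun i => (B i).map (Bialgebra.counitAlgHom k O)) = fun i => (1 : Matrix (κ i) (κ i) k) := by
      funext i
      exact (hB' i).2
    rw [this]
    exact Matrix.blockDiagonal'_one

/-- pushing a corepresentation along a bialgebra map. -/
theorem IsCorep.map {O' : Type*} [CommRing O'] [Bialgebra k O'] {m : Matrix ι ι O}
    (hm : IsCorep k m) (φ : O →ₐc[k] O') : IsCorep k (m.map φ) := by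
  refine ⟨fun i j => ?_, fun i j => ?_⟩
  · have h := CoalgHomClass.map_comp_comul_apply φ (m i j)
    rw [hm.comul, map_sum] at h
    simp only [Matrix.map_apply]
    rw [← h]
    rfl
  · have h := CoalgHomClass.counit_comp_apply φ (m i j)
    rw [hm.counit] at h
    simpa using h

end Defs

section Comod

variable {k : Type u} [CommRing k] {O : Type v} [CommRing O] [Bialgebra k O]
  {ι : Type w} [Fintype ι] [DecidableEq ι]

/-- the coaction `x_j ↦ Σ_i x_i ⊗ m i j` as an algebra map. -/
noncomputable def coactAlg (m : Matrix ι ι O) : MvPolynomial ι k →ₐ[k] MvPolynomial ι k ⊗[k] O :=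
  MvPolynomial.aeval fun j => ∑ i, MvPolynomial.X i ⊗ₜ[k] m i j

@[simp] theorem coactAlg_X (m : Matrix ι ι O) (j : ι) :
    coactAlg (k := k) m (MvPolynomial.X j) =
      ∑ i, (MvPolynomial.X i : MvPolynomial ι k) ⊗ₜ[k] m i j := by
  simp [coactAlg]

theorem coactAlg_coassoc {m : Matrix ι ι O} (hm : IsCorep k m) :
    (Algebra.TensorProduct.assoc k k k (MvPolynomial ι k) O O).toAlgHom.comp
        ((Algebra.TensorProduct.map (coactAlg (k := k) m) (AlgHom.id k O)).comp
          (coactAlg (k := k) m)) =
      (Algebra.TensorProduct.map (AlgHom.id k _) (Bialgebra.comulAlgHom k O)).comp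
        (coactAlg (k := k) m) := by
  apply MvPolynomial.algHom_ext
  intro i
  simp only [AlgHom.comp_apply, coactAlg_X, map_sum, Algebra.TensorProduct.map_tmul,
    AlgHom.id_apply, AlgHom.coe_coe, TensorProduct.sum_tmul, TensorProduct.tmul_sum,
    Algebra.TensorProduct.assoc_tmul, Bialgebra.comulAlgHom_apply, hm.comul]
  exact Finset.sum_comm

theorem coactAlg_counit {m : Matrix ι ι O} (hm : IsCorep k m) :
    (Algebra.TensorProduct.rid k k (MvPolynomial ι k)).toAlgHom.comp
        ((Algebra.TensorProduct.map (AlgHom.id k _) (Bialgebra.counitAlgHom k O)).comp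
          (coactAlg (k := k) m)) = AlgHom.id k _ := by
  apply MvPolynomial.algHom_ext
  intro i
  simp [Bialgebra.counitAlgHom_apply, hm.counit, Finset.sum_ite_eq', tmul_ite]

/-- the comodule structure on the polynomial ring defined by a corepresentation. -/
@[reducible] noncomputable def comodOf (m : Matrix ι ι O) (hm : IsCorep k m) :
    HopfRep.Comod k O (MvPolynomial ι k) where
  coact := (coactAlg m).toLinearMap
  coassoc := by
    refine LinearMap.ext fun p => ?_
    exact congrArg (fun φ => φ p) (coactAlg_coassoc hm)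
  counit_comp := by
    refine LinearMap.ext fun p => ?_
    have h' : (Algebra.TensorProduct.rid k k (MvPolynomial ι k))
        (LinearMap.lTensor (MvPolynomial ι k) (CoalgebraStruct.counit (R := k) (A := O))
          (coactAlg m p)) = p := congrArg (fun φ => φ p) (coactAlg_counit hm)
    apply (Algebra.TensorProduct.rid k k (MvPolynomial ι k)).injective
    simpa using h'

theorem comodOf_coact (m : Matrix ι ι O) (hm : IsCorep k m) (p : MvPolynomial ι k) :
    (comodOf m hm).coact p = coactAlg m p := rfl

end Comod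

end Groth.Agent.Lib.Helper84.Weitz
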