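import Mathlib
import Groth.Prelude.Def_GLin5

/-!
# Points of `SL_n` and the unipotent subgroup of `SL_2` (helper84)
-/

set_option autoImplicit false
set_option linter.unusedSectionVars false
universe u v
open TensorProduct WithConv CoordGrp

namespace Groth.Agent.Lib.Helper84.Weitz

section General

variable {k : Type u} [CommRing k] {n : ℕ}

theorem mk_Dinv : SLn.mk n k (GLn.Dinv : GLn n k) = 1 := by
  have h : (GLn.Dinv : GLn n k) * GLn.det = 1 := GLn.Dinv_mul_det
  have h2 := congrArg (SLn.mk n k) h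
  rw [map_mul, SLn.det_eq_one, mul_one, map_one] at h2
  exact h2

theorem algHom_ext' {B : Type v} [Semiring B] [Algebra k B] {f g : SLn n k →ₐ[k] B}
    (h : ∀ i j, f (SLn.X i j) = g (SLn.X i j)) : f = g := by
  apply SLn.algHom_ext h
  rw [mk_Dinv, map_one, map_one]

theorem comul_X (i j : Fin n) :
    CoalgebraStruct.comul (R := k) (SLn.X i j : SLn n k) =
      ∑ l : Fin n, (SLn.X i l : SLn n k) ⊗ₜ[k] (SLn.X l j : SLn n k) := by
  have h := CoalgHomClass.map_comp_comul_apply (SLn.mkHom n k) (GLn.X i j)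
  rw [GLn.comul_X, map_sum] at h
  exact h.symm

theorem counit_X (i j : Fin n) :
    CoalgebraStruct.counit (R := k) (SLn.X i j : SLn n k) = if i = j then (1 : k) else 0 := by
  have h := CoalgHomClass.counit_comp_apply (SLn.mkHom n k) (GLn.X i j)
  rw [GLn.counit_X] at h
  exact h

/-- the matrix of a point. -/
noncomputable def matOf {B : Type v} [CommRing B] [Algebra k B] (g : SLn n k →ₐ[k] B) :
    Matrix (Fin n) (Fin n) B := fun i j => g (SLn.X i j)

theorem det_matOf {B : Type v} [CommRing B] [Algebra k B] (g : SLn n k →ₐ[k] B) :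
    (matOf g).det = 1 := by
  have h1 : matOf g = (g.comp (SLn.mk n k)).mapMatrix (GLn.genMat n k) := by
    ext i j
    rfl
  rw [h1, ← AlgHom.map_det, ← GLn.det_eq, AlgHom.comp_apply, SLn.det_eq_one, map_one]

theorem eq_pt_matOf {B : Type v} [CommRing B] [Algebra k B] (g : SLn n k →ₐ[k] B) :
    g = SLn.pt n k (matOf g) (det_matOf g) := by
  apply algHom_ext'
  intro i j
  rw [SLn.pt_X]
  rfl

theorem conv_apply_X {B : Type v} [CommRing B] [Algebra k B] (g h : SLn n k →ₐ[k] B)
    (i j : Fin n) :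
    (toConv g * toConv h).ofConv (SLn.X i j) = ∑ l, g (SLn.X i l) * h (SLn.X l j) := by
  have := AlgHom.convMul_apply (toConv g) (toConv h) (SLn.X i j : SLn n k)
  rw [comul_X, map_sum] at this
  simp only [Algebra.TensorProduct.lift_tmul] at this
  exact this

/-- the product of two points is the point of the product matrix. -/
theorem conv_pt {B : Type v} [CommRing B] [Algebra k B] (M N : Matrix (Fin n) (Fin n) B)
    (hM : M.det = 1) (hN : N.det = 1) :
    (toConv (SLn.pt n k M hM) * toConv (SLn.pt n k N hN)).ofConv =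
      SLn.pt n k (M * N) (by rw [Matrix.det_mul, hM, hN, mul_one]) := by
  apply algHom_ext'
  intro i j
  rw [conv_apply_X, SLn.pt_X, Matrix.mul_apply]
  simp only [SLn.pt_X]

theorem comp_pt {B : Type v} [CommRing B] [Algebra k B] {B' : Type v} [CommRing B'] [Algebra k B']
    (φ : B →ₐ[k] B') (M : Matrix (Fin n) (Fin n) B) (hM : M.det = 1) :
    φ.comp (SLn.pt n k M hM) = SLn.pt n k (φ.mapMatrix M)
      (by rw [← AlgHom.map_det, hM, map_one]) := by
  apply algHom_ext'
  intro i j
  rw [AlgHom.comp_apply, SLn.pt_X, SLn.pt_X]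
  rfl

theorem pt_one {B : Type v} [CommRing B] [Algebra k B] :
    SLn.pt n k (1 : Matrix (Fin n) (Fin n) B) Matrix.det_one =
      (Algebra.ofId k B).comp (Bialgebra.counitAlgHom k (SLn n k)) := by
  apply algHom_ext'
  intro i j
  rw [SLn.pt_X, AlgHom.comp_apply, Bialgebra.counitAlgHom_apply, counit_X, Matrix.one_apply]
  split_ifs <;> simp

end General

section SL2

variable {k : Type u} [CommRing k]

/-- the upper unitriangular matrix. -/
def uMat {B : Type v} [CommRing B] (τ : B) : Matrix (Fin 2) (Fin 2) B := !![1, τ; 0, 1]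

theorem det_uMat {B : Type v} [CommRing B] (τ : B) : (uMat τ).det = 1 := by
  simp [uMat, Matrix.det_fin_two]

/-- the point `[[1, τ], [0, 1]]` of `SL_2`. -/
noncomputable def uPt {B : Type v} [CommRing B] [Algebra k B] (τ : B) : SLn 2 k →ₐ[k] B :=
  SLn.pt 2 k (uMat τ) (det_uMat τ)

theorem uPt_X {B : Type v} [CommRing B] [Algebra k B] (τ : B) (i j : Fin 2) :
    uPt (k := k) τ (SLn.X i j) = uMat τ i j := SLn.pt_X _ _ i j

theorem uMat_mul {B : Type v} [CommRing B] (τ τ' : B) : uMat τ * uMat τ' = uMat (τ + τ') := by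
  ext i j
  fin_cases i <;> fin_cases j <;> simp [uMat, Matrix.mul_apply, Fin.sum_univ_two, add_comm]

theorem uPt_mul {B : Type v} [CommRing B] [Algebra k B] (τ τ' : B) :
    (toConv (uPt (k := k) τ) * toConv (uPt (k := k) τ')).ofConv = uPt (τ + τ') := by
  unfold uPt
  rw [conv_pt]
  congr 1
  exact uMat_mul τ τ'

theorem comp_uPt {B : Type v} [CommRing B] [Algebra k B] {B' : Type v} [CommRing B']
    [Algebra k B'] (φ : B →ₐ[k] B') (τ : B) : φ.comp (uPt (k := k) τ) = uPt (φ τ) := by
  unfold uPt
  rw [comp_pt]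
  congr 1
  ext i j
  fin_cases i <;> fin_cases j <;> simp [uMat]

theorem uPt_zero {B : Type v} [CommRing B] [Algebra k B] :
    uPt (k := k) (0 : B) = (Algebra.ofId k B).comp (Bialgebra.counitAlgHom k (SLn 2 k)) := by
  rw [← pt_one]
  unfold uPt
  congr 1
  ext i j
  fin_cases i <;> fin_cases j <;> simp [uMat]

/-- the generic point of the unipotent subgroup. -/
noncomputable def piU : SLn 2 k →ₐ[k] Polynomial k := uPt (Polynomial.X)

theorem aeval_comp_piU {B : Type u} [CommRing B] [Algebra k B] (τ : B) :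
    (Polynomial.aeval τ).comp (piU (k := k)) = uPt τ := by
  unfold piU
  rw [comp_uPt, Polynomial.aeval_X]

end SL2

end Groth.Agent.Lib.Helper84.Weitz
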