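import Mathlib
import Groth.Agent.Lib.Helper84.Weitz.Corep
import Groth.Agent.Lib.Helper84.Weitz.SL2Basic

/-!
# The differential of a corepresentation of `SL_2` along the unipotent subgroup (helper84)

For a corepresentation `m` of `SL_2`, the matrix `E = m(u(t))` over `k[t]` satisfies
`E' = E · dm` and `E(0) = 1`, where `dm` is the matrix of `t`-coefficients of `E`.
-/

set_option autoImplicit false
set_option linter.unusedSectionVars false
universe u v w
open TensorProduct WithConv CoordGrp Polynomial

namespace Groth.Agent.Lib.Helper84.Weitz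

section Conv

variable {k : Type u} [CommRing k] {O : Type v} [CommRing O] [Bialgebra k O]
  {ι : Type w} [Fintype ι] [DecidableEq ι]

theorem conv_apply_corep {B : Type*} [CommRing B] [Algebra k B] {m : Matrix ι ι O}
    (hm : IsCorep k m) (g h : O →ₐ[k] B) (i j : ι) :
    (toConv g * toConv h).ofConv (m i j) = ∑ l, g (m i l) * h (m l j) := by
  have := AlgHom.convMul_apply (toConv g) (toConv h) (m i j)
  rw [hm.comul, map_sum] at this
  simp only [Algebra.TensorProduct.lift_tmul] at this
  exact this

end Conv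

section Dual

variable {k : Type u} [CommRing k]

theorem aeval_inl_X_add_eps (p : k[X]) :
    aeval (TrivSqZeroExt.inl X + DualNumber.eps : DualNumber k[X]) p =
      TrivSqZeroExt.inl p + TrivSqZeroExt.inr (derivative p) := by
  have hε : (DualNumber.eps : DualNumber k[X]) ^ 2 = 0 := by
    rw [pow_two, DualNumber.eps_mul_eps]
  rw [Polynomial.aeval_add_of_sq_eq_zero p _ _ hε]
  have h1 : ∀ q : k[X], aeval (TrivSqZeroExt.inl X : DualNumber k[X]) q = TrivSqZeroExt.inl q := by
    intro q
    have := Polynomial.aeval_algHom_apply (TrivSqZeroExt.inlAlgHom k k[X] k[X]) (X : k[X]) q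
    rw [aeval_X_left_apply] at this
    exact this
  rw [h1, h1]
  congr 1
  show TrivSqZeroExt.inl (derivative p) * TrivSqZeroExt.inr (1 : k[X]) = _
  rw [TrivSqZeroExt.inl_mul_inr, smul_eq_mul, mul_one]

theorem aeval_eps (p : k[X]) :
    aeval (DualNumber.eps : DualNumber k[X]) p =
      TrivSqZeroExt.inl (C (p.coeff 0)) + TrivSqZeroExt.inr (C (p.coeff 1)) := by
  have hε : (DualNumber.eps : DualNumber k[X]) ^ 2 = 0 := by
    rw [pow_two, DualNumber.eps_mul_eps]
  have h0 := Polynomial.aeval_add_of_sq_eq_zero p (0 : DualNumber k[X]) _ hε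
  rw [zero_add] at h0
  rw [h0, ← Polynomial.coeff_zero_eq_aeval_zero', ← Polynomial.coeff_zero_eq_aeval_zero',
    Polynomial.coeff_derivative, TrivSqZeroExt.algebraMap_eq_inl', TrivSqZeroExt.algebraMap_eq_inl']
  congr 1
  show TrivSqZeroExt.inl _ * TrivSqZeroExt.inr (1 : k[X]) = _
  rw [TrivSqZeroExt.inl_mul_inr, smul_eq_mul, mul_one]
  simp [Polynomial.algebraMap_eq]

end Dual

section Main

variable {k : Type u} [CommRing k] {ι : Type w} [Fintype ι] [DecidableEq ι]

/-- the matrix `m(u(t))` over `k[t]`. -/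
noncomputable def Emat (m : Matrix ι ι (SLn 2 k)) : Matrix ι ι (Polynomial k) :=
  m.map (piU (k := k))

/-- the differential of `m` along the unipotent subgroup. -/
noncomputable def dmat (m : Matrix ι ι (SLn 2 k)) : Matrix ι ι k :=
  fun i j => (piU (m i j)).coeff 1

theorem Emat_apply (m : Matrix ι ι (SLn 2 k)) (i j : ι) : Emat m i j = piU (m i j) := rfl

theorem coeff_zero_Emat {m : Matrix ι ι (SLn 2 k)} (hm : IsCorep k m) (i j : ι) :
    (Emat m i j).coeff 0 = if i = j then 1 else 0 := by
  rw [Emat_apply]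
  have h1 : (piU (m i j)).coeff 0 = aeval (0 : k) (piU (m i j)) := by
    rw [Polynomial.coeff_zero_eq_aeval_zero]
  rw [h1]
  have h2 := congrArg (fun f => f (m i j)) (aeval_comp_piU (k := k) (0 : k))
  simp only [AlgHom.comp_apply] at h2
  rw [h2, uPt_zero, AlgHom.comp_apply, Bialgebra.counitAlgHom_apply, hm.counit]
  simp

theorem derivative_Emat {m : Matrix ι ι (SLn 2 k)} (hm : IsCorep k m) (i j : ι) :
    derivative (Emat m i j) = ∑ l, Emat m i l * C (dmat m l j) := by
  have hmul := uPt_mul (k := k) (TrivSqZeroExt.inl X : DualNumber k[X]) DualNumber.eps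
  have h1 := congrArg (fun f => f (m i j)) hmul
  beta_reduce at h1
  rw [conv_apply_corep hm] at h1
  have h2 : ∀ (τ : DualNumber k[X]) (b : SLn 2 k), uPt τ b = aeval τ (piU b) := by
    intro τ b
    have := congrArg (fun f => f b) (aeval_comp_piU (k := k) τ)
    simp only [AlgHom.comp_apply] at this
    exact this.symm
  simp only [h2, aeval_inl_X_add_eps, aeval_eps] at h1
  have h3 := congrArg TrivSqZeroExt.snd h1
  have hX : ∀ q : k[X], aeval (TrivSqZeroExt.inl X : DualNumber k[X]) q = TrivSqZeroExt.inl q := by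
    intro q
    have := Polynomial.aeval_algHom_apply (TrivSqZeroExt.inlAlgHom k k[X] k[X]) (X : k[X]) q
    rw [aeval_X_left_apply] at this
    exact this
  simp only [hX, TrivSqZeroExt.snd_sum, DualNumber.snd_mul, TrivSqZeroExt.snd_add,
    TrivSqZeroExt.snd_inl, TrivSqZeroExt.snd_inr, TrivSqZeroExt.fst_inl, TrivSqZeroExt.fst_add,
    TrivSqZeroExt.fst_inr, zero_add, add_zero, zero_mul] at h3
  rw [Emat_apply]
  rw [← h3]
  rfl

end Main

end Groth.Agent.Lib.Helper84.Weitz
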