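import Mathlib
import Groth.Prelude.Def_GLin6
import Groth.Agent.Lib.Helper84.Weitz.Diff

/-!
# The symmetric power corepresentations of `SL_2` and their differentials (helper84)
-/

set_option autoImplicit false
set_option linter.unusedSectionVars false
universe u v w
open TensorProduct WithConv CoordGrp Polynomial

namespace Groth.Agent.Lib.Helper84.Weitz

section Aux

theorem add_pow_of_sq_zero {S : Type*} [CommRing S] (y z : S) (hz : z ^ 2 = 0) (n : ℕ) :
    (y + z) ^ n = y ^ n + (n : S) * y ^ (n - 1) * z := by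
  have := Polynomial.aeval_add_of_sq_eq_zero (X ^ n : ℤ[X]) y z hz
  rw [derivative_X_pow] at this
  simpa using this

variable {k : Type u} [CommRing k] (A : Type u) [CommRing A] [Algebra k A]

theorem aeval_eps_gen (p : k[X]) :
    aeval (DualNumber.eps : DualNumber A) p =
      TrivSqZeroExt.inl (algebraMap k A (p.coeff 0)) +
        TrivSqZeroExt.inr (algebraMap k A (p.coeff 1)) := by
  have hε : (DualNumber.eps : DualNumber A) ^ 2 = 0 := by
    rw [pow_two, DualNumber.eps_mul_eps]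
  have h0 := Polynomial.aeval_add_of_sq_eq_zero p (0 : DualNumber A) _ hε
  rw [zero_add] at h0
  rw [h0, ← Polynomial.coeff_zero_eq_aeval_zero', ← Polynomial.coeff_zero_eq_aeval_zero',
    Polynomial.coeff_derivative, TrivSqZeroExt.algebraMap_eq_inl', TrivSqZeroExt.algebraMap_eq_inl']
  congr 1
  show TrivSqZeroExt.inl _ * TrivSqZeroExt.inr (1 : A) = _
  rw [TrivSqZeroExt.inl_mul_inr, smul_eq_mul, mul_one]
  simp

theorem algebraMap_coeff_one_piU (b : SLn 2 k) :
    algebraMap k A ((piU b).coeff 1) =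
      TrivSqZeroExt.snd (uPt (k := k) (DualNumber.eps : DualNumber A) b) := by
  have := congrArg (fun f => f b) (aeval_comp_piU (k := k) (DualNumber.eps : DualNumber A))
  simp only [AlgHom.comp_apply] at this
  rw [← this, aeval_eps_gen]
  simp [Algebra.algebraMap_eq_smul_one]

theorem coeffT_map {n : ℕ} {B B' : Type*} [CommRing B] [Algebra k B] [CommRing B'] [Algebra k B']
    (ψ : B →ₐ[k] B') (j : Fin n →₀ ℕ) (w : MvPolynomial (Fin n) k ⊗[k] B) :
    coeffT (k := k) j (Algebra.TensorProduct.map (AlgHom.id k _) ψ w) = ψ (coeffT (k := k) j w) := by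
  induction w using TensorProduct.induction_on with
  | zero => simp
  | tmul p a => simp
  | add a b ha hb => simp only [map_add, ha, hb]

theorem monomial_fin_two (s : Fin 2 →₀ ℕ) :
    (MvPolynomial.monomial s (1 : k) : MvPolynomial (Fin 2) k) =
      MvPolynomial.X 0 ^ s 0 * MvPolynomial.X 1 ^ s 1 := by
  rw [MvPolynomial.monomial_eq, Finsupp.prod_fintype _ _ (fun i => pow_zero _), Fin.prod_univ_two]
  simp

theorem X_pow_mul_X_pow (a b : ℕ) :
    (MvPolynomial.X 0 ^ a * MvPolynomial.X 1 ^ b : MvPolynomial (Fin 2) k) =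
      MvPolynomial.monomial (Finsupp.single 0 a + Finsupp.single 1 b) 1 := by
  rw [monomial_fin_two]
  simp

end Aux

section Main

variable {k : Type u} [CommRing k]

/-- the quotient bialgebra map `M_2 → SL_2`. -/
noncomputable def phiSL : Mat 2 k →ₐc[k] SLn 2 k := (SLn.mkHom 2 k).comp (Mat.toGLn 2 k)

theorem phiSL_X (i j : Fin 2) : phiSL (k := k) (Mat.X i j) = SLn.X i j := by
  show SLn.mkHom 2 k (Mat.toGLn 2 k (Mat.X i j)) = _
  rw [Mat.toGLn_X]
  rfl

variable (A : Type u) [CommRing A] [Algebra k A]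

/-- the dual-number point `[[1, ε], [0, 1]]` of the matrix monoid. -/
noncomputable def psiE : Mat 2 k →ₐ[k] DualNumber A :=
  Mat.aeval 2 k (uMat (DualNumber.eps : DualNumber A))

theorem uPt_eps_comp_phiSL :
    (uPt (k := k) (DualNumber.eps : DualNumber A)).comp
      (phiSL (k := k) : Mat 2 k →ₐ[k] SLn 2 k) = psiE A := by
  apply Mat.algHom_ext
  intro i j
  rw [AlgHom.comp_apply]
  show uPt _ (phiSL (Mat.X i j)) = _
  rw [phiSL_X, uPt_X, psiE, Mat.aeval_X]

/-- the coaction of the dual-number point on `k[x₀, x₁]`. -/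
noncomputable def betaE : MvPolynomial (Fin 2) k →ₐ[k] MvPolynomial (Fin 2) k ⊗[k] DualNumber A :=
  (Algebra.TensorProduct.map (AlgHom.id k _) (psiE (k := k) A)).comp (stdCoactAlg 2 k)

theorem betaE_X0 : betaE (k := k) A (MvPolynomial.X 0) = MvPolynomial.X 0 ⊗ₜ[k] 1 := by
  simp [betaE, psiE, uMat, Fin.sum_univ_two]

theorem betaE_X1 : betaE (k := k) A (MvPolynomial.X 1) =
    MvPolynomial.X 1 ⊗ₜ[k] 1 + MvPolynomial.X 0 ⊗ₜ[k] DualNumber.eps := by
  simp [betaE, psiE, uMat, Fin.sum_univ_two, add_comm]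

theorem betaE_monomial (s : Fin 2 →₀ ℕ) :
    betaE (k := k) A (MvPolynomial.monomial s 1) =
      MvPolynomial.monomial s 1 ⊗ₜ[k] 1 +
        (MvPolynomial.monomial (Finsupp.single 0 (s 0 + 1) + Finsupp.single 1 (s 1 - 1))
          ((s 1 : ℕ) : k)) ⊗ₜ[k] DualNumber.eps := by
  have hz : ((MvPolynomial.X 0 : MvPolynomial (Fin 2) k) ⊗ₜ[k] (DualNumber.eps : DualNumber A)) ^ 2
      = 0 := by
    rw [Algebra.TensorProduct.tmul_pow, pow_two (DualNumber.eps : DualNumber A),
      DualNumber.eps_mul_eps, tmul_zero]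
  have hp := add_pow_of_sq_zero ((MvPolynomial.X 1 : MvPolynomial (Fin 2) k) ⊗ₜ[k] (1 : DualNumber A))
    ((MvPolynomial.X 0 : MvPolynomial (Fin 2) k) ⊗ₜ[k] (DualNumber.eps : DualNumber A)) hz (s 1)
  have hx0e : (MvPolynomial.X 0 : MvPolynomial (Fin 2) k) ⊗ₜ[k] (DualNumber.eps : DualNumber A) =
      ((MvPolynomial.X 0 : MvPolynomial (Fin 2) k) ⊗ₜ[k] (1 : DualNumber A)) *
        ((1 : MvPolynomial (Fin 2) k) ⊗ₜ[k] (DualNumber.eps : DualNumber A)) := by
    rw [Algebra.TensorProduct.tmul_mul_tmul, mul_one, one_mul]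
  have hm1 : ((MvPolynomial.X 0 ^ s 0 * MvPolynomial.X 1 ^ s 1 : MvPolynomial (Fin 2) k)) ⊗ₜ[k]
      (1 : DualNumber A) =
      ((MvPolynomial.X 0 : MvPolynomial (Fin 2) k) ⊗ₜ[k] (1 : DualNumber A)) ^ s 0 *
        ((MvPolynomial.X 1 : MvPolynomial (Fin 2) k) ⊗ₜ[k] (1 : DualNumber A)) ^ s 1 := by
    rw [Algebra.TensorProduct.tmul_pow, Algebra.TensorProduct.tmul_pow,
      Algebra.TensorProduct.tmul_mul_tmul, one_pow, one_pow, mul_one]
  have hn : (((s 1 : ℕ) : MvPolynomial (Fin 2) k)) ⊗ₜ[k] (1 : DualNumber A) =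
      ((s 1 : ℕ) : MvPolynomial (Fin 2) k ⊗[k] DualNumber A) :=
    map_natCast (Algebra.TensorProduct.includeLeft :
      MvPolynomial (Fin 2) k →ₐ[k] MvPolynomial (Fin 2) k ⊗[k] DualNumber A) (s 1)
  have hm2 : ((((s 1 : ℕ) : MvPolynomial (Fin 2) k)) * (MvPolynomial.X 0 ^ (s 0 + 1) *
      MvPolynomial.X 1 ^ (s 1 - 1) : MvPolynomial (Fin 2) k)) ⊗ₜ[k] (DualNumber.eps : DualNumber A) =
      ((s 1 : ℕ) : MvPolynomial (Fin 2) k ⊗[k] DualNumber A) *
      (((MvPolynomial.X 0 : MvPolynomial (Fin 2) k) ⊗ₜ[k] (1 : DualNumber A)) ^ (s 0 + 1) *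
        ((MvPolynomial.X 1 : MvPolynomial (Fin 2) k) ⊗ₜ[k] (1 : DualNumber A)) ^ (s 1 - 1) *
        ((1 : MvPolynomial (Fin 2) k) ⊗ₜ[k] (DualNumber.eps : DualNumber A))) := by
    rw [← hn, Algebra.TensorProduct.tmul_pow, Algebra.TensorProduct.tmul_pow,
      Algebra.TensorProduct.tmul_mul_tmul, Algebra.TensorProduct.tmul_mul_tmul,
      Algebra.TensorProduct.tmul_mul_tmul, one_pow, one_pow, mul_one, mul_one, one_mul, one_mul]
  have hmon : (MvPolynomial.monomial (Finsupp.single 0 (s 0 + 1) + Finsupp.single 1 (s 1 - 1))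
      ((s 1 : ℕ) : k) : MvPolynomial (Fin 2) k) =
      ((s 1 : ℕ) : MvPolynomial (Fin 2) k) *
        (MvPolynomial.X 0 ^ (s 0 + 1) * MvPolynomial.X 1 ^ (s 1 - 1)) := by
    rw [X_pow_mul_X_pow, ← map_natCast (MvPolynomial.C (R := k) (σ := Fin 2)),
      MvPolynomial.C_mul_monomial, mul_one]
  conv_lhs => rw [monomial_fin_two, map_mul, map_pow, map_pow, betaE_X0, betaE_X1, hp]
  rw [hmon, monomial_fin_two, hm1, hm2, hx0e]
  ring

/-- the corepresentation of `SL_2` on binary forms of degree `d`. -/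
noncomputable def blk (d : ℕ) : Matrix (FormIdx 2 d) (FormIdx 2 d) (SLn 2 k) :=
  fun l m => phiSL (formCoeff k 2 d l m)

theorem isCorep_blk (d : ℕ) : IsCorep k (blk (k := k) d) := by
  have h0 : IsCorep k (Matrix.of (formCoeff k 2 d)) := by
    refine ⟨fun i j => ?_, fun i j => ?_⟩
    · exact comul_formCoeff d i j
    · rw [Matrix.of_apply, counit_formCoeff]
  exact h0.map phiSL

theorem algebraMap_dmat_blk (d : ℕ) (l m : FormIdx 2 d) :
    algebraMap k A (dmat (blk (k := k) d) l m) =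
      if l.1 1 + 1 = m.1 1 then ((m.1 1 : ℕ) : A) else 0 := by
  classical
  unfold dmat blk
  rw [algebraMap_coeff_one_piU]
  have h1 : uPt (k := k) (DualNumber.eps : DualNumber A) (phiSL (formCoeff k 2 d l m)) =
      psiE A (formCoeff k 2 d l m) :=
    congrArg (fun f => f (formCoeff k 2 d l m)) (uPt_eps_comp_phiSL (k := k) A)
  rw [h1, formCoeff_def, ← coeffT_map]
  have h2 : Algebra.TensorProduct.map (AlgHom.id k _) (psiE (k := k) A)
      (stdCoactAlg 2 k (MvPolynomial.monomial m.1 1)) = betaE A (MvPolynomial.monomial m.1 1) := rfl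
  rw [h2, betaE_monomial, map_add, coeffT_tmul, coeffT_tmul,
    MvPolynomial.coeff_monomial, MvPolynomial.coeff_monomial]
  simp only [TrivSqZeroExt.snd_add, TrivSqZeroExt.snd_smul, TrivSqZeroExt.snd_one,
    DualNumber.snd_eps, smul_zero, zero_add]
  have hl : l.1 0 + l.1 1 = d := by
    have := l.2
    rw [Finsupp.degree_eq_sum, Fin.sum_univ_two] at this
    exact this
  have hm : m.1 0 + m.1 1 = d := by
    have := m.2
    rw [Finsupp.degree_eq_sum, Fin.sum_univ_two] at this
    exact this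
  by_cases hb : l.1 1 + 1 = m.1 1
  · have : Finsupp.single 0 (m.1 0 + 1) + Finsupp.single 1 (m.1 1 - 1) = l.1 := by
      ext i
      fin_cases i
      · simp; omega
      · simp; omega
    rw [if_pos this, if_pos hb]
    simp [Algebra.smul_def]
  · rw [if_neg hb]
    by_cases hz : m.1 1 = 0
    · simp [hz]
    · have : ¬ Finsupp.single 0 (m.1 0 + 1) + Finsupp.single 1 (m.1 1 - 1) = l.1 := by
        intro h
        have := congrArg (fun f => f 1) h
        simp at this
        omega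
      rw [if_neg this]
      simp

end Main

section Field

variable {k : Type u} [CommRing k]

theorem dmat_blk (d : ℕ) (l m : FormIdx 2 d) :
    dmat (blk (k := k) d) l m = if l.1 1 + 1 = m.1 1 then ((m.1 1 : ℕ) : k) else 0 :=
  algebraMap_dmat_blk (k := k) k d l m

end Field

end Groth.Agent.Lib.Helper84.Weitz
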