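import Mathlib
import Groth.Agent.Lib.Helper84.Weitz.Diff
import Groth.Agent.Lib.Helper84.Obs.TransferA
import Groth.Agent.H40.DiagSS

/-!
# Invariants of the unipotent subgroup of `SL_2` in a polynomial comodule algebra
are the kernel of the derivation (helper84)
-/

set_option autoImplicit false
set_option linter.unusedSectionVars false
universe u v w
open TensorProduct WithConv CoordGrp Polynomial

namespace Groth.Agent.Lib.Helper84.Weitz

open Groth.Agent.H40 Groth.Agent.Lib.Helper84.Obs

section DT

variable {k : Type u} [Field k] {R : Type w} [CommRing R] [Algebra k R]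

/-- `id ⊗ d/dt` on `R ⊗ k[t]`. -/
noncomputable def dT : R ⊗[k] k[X] →ₗ[k] R ⊗[k] k[X] :=
  LinearMap.lTensor R (Polynomial.derivative (R := k))

@[simp] theorem dT_tmul (r : R) (p : k[X]) : dT (r ⊗ₜ[k] p) = r ⊗ₜ[k] derivative p := rfl

theorem dT_mul (x y : R ⊗[k] k[X]) : dT (x * y) = dT x * y + x * dT y := by
  induction x using TensorProduct.induction_on with
  | zero => simp
  | tmul a p =>
    induction y using TensorProduct.induction_on with
    | zero => simp
    | tmul b q =>
      simp only [Algebra.TensorProduct.tmul_mul_tmul, dT_tmul, derivative_mul, tmul_add]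
    | add y₁ y₂ h₁ h₂ =>
      rw [mul_add, map_add, h₁, h₂, map_add, mul_add, mul_add]
      abel
  | add x₁ x₂ h₁ h₂ =>
    rw [add_mul, map_add, h₁, h₂, map_add, add_mul, add_mul]
    abel

/-- evaluation at `t = 0`. -/
noncomputable def ev0 : R ⊗[k] k[X] →ₐ[k] R :=
  (Algebra.TensorProduct.rid k k R).toAlgHom.comp
    (Algebra.TensorProduct.map (AlgHom.id k R) (aeval (0 : k)))

@[simp] theorem ev0_tmul (r : R) (p : k[X]) : ev0 (r ⊗ₜ[k] p) = p.coeff 0 • r := by
  simp [ev0, Polynomial.coeff_zero_eq_aeval_zero]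

theorem apply_ev0 (ψ : R →ₗ[k] k) (w : R ⊗[k] k[X]) : ψ (ev0 w) = (lslice ψ w).coeff 0 := by
  induction w using TensorProduct.induction_on with
  | zero => simp
  | tmul r p => simp [mul_comm]
  | add a b ha hb => simp only [map_add, ha, hb, Polynomial.coeff_add]

theorem eq_of_dT_eq_zero [CharZero k] (w : R ⊗[k] k[X]) (h : dT w = 0) :
    w = ev0 w ⊗ₜ[k] 1 := by
  rw [← sub_eq_zero]
  apply eq_zero_of_forall_lslice
  intro ψ
  rw [map_sub, lslice_tmul, apply_ev0, sub_eq_zero]
  have h1 : derivative (lslice ψ w) = 0 := by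
    have := lslice_lTensor (Polynomial.derivative (R := k)) ψ w
    rw [← this]
    show lslice ψ (dT w) = 0
    rw [h, map_zero]
  rw [Polynomial.smul_eq_C_mul, mul_one]
  exact Polynomial.eq_C_of_derivative_eq_zero h1

end DT

section Main

variable {k : Type u} [Field k] {ι : Type w} [Fintype ι] [DecidableEq ι]

/-- the linear derivation `X_j ↦ Σ_i M i j X_i`. -/
noncomputable def deltaM (M : Matrix ι ι k) : Derivation k (MvPolynomial ι k) (MvPolynomial ι k) :=
  MvPolynomial.mkDerivation k
    (fun j => ∑ i, M i j • (MvPolynomial.X i : MvPolynomial ι k))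

theorem deltaM_X (M : Matrix ι ι k) (j : ι) :
    deltaM M (MvPolynomial.X j) = ∑ i, M i j • (MvPolynomial.X i : MvPolynomial ι k) :=
  MvPolynomial.mkDerivation_X _ _ j

/-- the coaction restricted to the unipotent subgroup. -/
noncomputable def alphaU (m : Matrix ι ι (SLn 2 k)) :
    MvPolynomial ι k →ₐ[k] MvPolynomial ι k ⊗[k] k[X] :=
  (Algebra.TensorProduct.map (AlgHom.id k _) (piU (k := k))).comp (coactAlg m)

theorem alphaU_X (m : Matrix ι ι (SLn 2 k)) (j : ι) :
    alphaU m (MvPolynomial.X j) =
      ∑ i, (MvPolynomial.X i : MvPolynomial ι k) ⊗ₜ[k] Emat m i j := by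
  simp [alphaU, Emat_apply]

theorem dT_alphaU_X {m : Matrix ι ι (SLn 2 k)} (hm : IsCorep k m) (j : ι) :
    dT (alphaU m (MvPolynomial.X j)) = alphaU m (deltaM (dmat m) (MvPolynomial.X j)) := by
  rw [alphaU_X, deltaM_X, map_sum, map_sum]
  simp only [dT_tmul, derivative_Emat hm, tmul_sum, map_smul, alphaU_X, Finset.smul_sum]
  rw [Finset.sum_comm]
  refine Finset.sum_congr rfl fun l _ => Finset.sum_congr rfl fun i _ => ?_
  rw [mul_comm, ← Polynomial.smul_eq_C_mul, tmul_smul]

theorem dT_alphaU {m : Matrix ι ι (SLn 2 k)} (hm : IsCorep k m) (f : MvPolynomial ι k) :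
    dT (alphaU m f) = alphaU m (deltaM (dmat m) f) := by
  induction f using MvPolynomial.induction_on with
  | C a =>
    rw [← MvPolynomial.algebraMap_eq, AlgHom.commutes, Derivation.map_algebraMap, map_zero,
      Algebra.algebraMap_eq_smul_one, map_smul, Algebra.TensorProduct.one_def, dT_tmul,
      derivative_one, tmul_zero, smul_zero]
  | add p q hp hq => rw [map_add, map_add, hp, hq, map_add, map_add]
  | mul_X p j hp =>
    rw [map_mul, dT_mul, hp, dT_alphaU_X hm, Derivation.leibniz, map_add, smul_eq_mul,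
      smul_eq_mul, map_mul, map_mul]
    ring

theorem ev0_alphaU {m : Matrix ι ι (SLn 2 k)} (hm : IsCorep k m) (f : MvPolynomial ι k) :
    ev0 (alphaU m f) = f := by
  have : (ev0.comp (alphaU m)) = AlgHom.id k (MvPolynomial ι k) := by
    apply MvPolynomial.algHom_ext
    intro j
    rw [AlgHom.comp_apply, alphaU_X, map_sum, AlgHom.id_apply]
    simp only [ev0_tmul, coeff_zero_Emat hm]
    rw [Finset.sum_eq_single j]
    · simp
    · intro i _ hij
      simp [hij]
    · intro h
      exact absurd (Finset.mem_univ j) h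
  exact congrArg (fun φ => φ f) this

/-- an element is fixed by the unipotent subgroup iff it is killed by the derivation. -/
theorem isFix_piU_iff [CharZero k] {m : Matrix ι ι (SLn 2 k)} (hm : IsCorep k m)
    (f : MvPolynomial ι k) :
    @IsFix k _ (SLn 2 k) _ _ k[X] _ _ (MvPolynomial ι k) _ _ (comodOf m hm) (piU (k := k)) f ↔
      deltaM (dmat m) f = 0 := by
  unfold IsFix
  have h0 : LinearMap.lTensor (MvPolynomial ι k) (piU (k := k)).toLinearMap
      ((comodOf m hm).coact f) = alphaU m f := by
    rw [comodOf_coact, ← map_id_eq_lTensor']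
    rfl
  rw [h0]
  constructor
  · intro h
    have h1 := dT_alphaU hm f
    rw [h, dT_tmul, derivative_one, tmul_zero] at h1
    have h2 := ev0_alphaU hm (deltaM (dmat m) f)
    rw [← h1, map_zero] at h2
    exact h2.symm
  · intro h
    have h1 := dT_alphaU hm f
    rw [h, map_zero] at h1
    have h2 := eq_of_dT_eq_zero _ h1
    rw [ev0_alphaU hm] at h2
    exact h2

end Main

end Groth.Agent.Lib.Helper84.Weitz
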