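import Mathlib
import Groth.Agent.Lib.Helper84.Weitz.SL2Basic
import Groth.Agent.Lib.Helper84.Obs.TransferA
import Groth.Agent.Lib.Helper84.Obs.HopfObs2
import Groth.Agent.Lib.Helper84.HopfFFTrans
import Groth.Agent.Lib.Helper84.HopfCartier
import Groth.Agent.Lib.Helper91.FormsOrbit

/-!
# The functions on `SL_2` invariant under right translation by the unipotent subgroup
are the polynomials in the first column (helper84)
-/

set_option autoImplicit false
set_option linter.unusedSectionVars false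
universe u v w
open TensorProduct WithConv CoordGrp

namespace Groth.Agent.Lib.Helper84.Weitz

open Groth.Agent.Lib.Helper84.Obs

section A

variable {k : Type u} [Field k]

theorem conv_apply_of_isRInv {O : Type v} [CommRing O] [HopfAlgebra k O] {B : Type w} [CommRing B]
    [Algebra k B] (g h : O →ₐ[k] B) (f : O) (hf : IsRInv h f) :
    (toConv g * toConv h).ofConv f = g f := by
  have key : ∀ z : O ⊗[k] O, Algebra.TensorProduct.lift g h (fun _ _ => Commute.all _ _) z =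
      Algebra.TensorProduct.lift g (AlgHom.id k B) (fun _ _ => Commute.all _ _)
        (LinearMap.lTensor O h.toLinearMap z) := by
    intro z
    induction z using TensorProduct.induction_on with
    | zero => simp
    | tmul a b => simp
    | add a b ha hb => simp only [map_add, ha, hb]
  have h1 := AlgHom.convMul_apply (toConv g) (toConv h) f
  have h2 := key (CoalgebraStruct.comul (R := k) f)
  unfold IsRInv at hf
  rw [hf] at h2
  simp only [Algebra.TensorProduct.lift_tmul, map_one, mul_one] at h2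
  exact h1.trans h2

theorem pt_congr {B : Type v} [CommRing B] [Algebra k B] {n : ℕ} {M M' : Matrix (Fin n) (Fin n) B}
    (h : M = M') (hM : M.det = 1) (hM' : M'.det = 1) : SLn.pt n k M hM = SLn.pt n k M' hM' := by
  subst h
  rfl

theorem pt_mul_uMat_apply {B : Type u} [CommRing B] [Algebra k B] (f : SLn 2 k)
    (hf : IsRInv (piU (k := k)) f) (N : Matrix (Fin 2) (Fin 2) B) (hN : N.det = 1) (τ : B)
    (h' : (N * uMat τ).det = 1) :
    SLn.pt 2 k (N * uMat τ) h' f = SLn.pt 2 k N hN f := by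
  have h1 : IsRInv (uPt (k := k) τ) f := by
    have := isRInv_comp (piU (k := k)) (Polynomial.aeval τ) f hf
    rw [aeval_comp_piU] at this
    exact this
  have h2 := conv_apply_of_isRInv (SLn.pt 2 k N hN) (uPt (k := k) τ) f h1
  rw [← h2]
  unfold uPt
  rw [conv_pt]

theorem X_col0_mem (i : Fin 2) : (SLn.X i 0 : SLn 2 k) ∈ invSub (piU (k := k)) := by
  rw [mem_invSub_iff]
  unfold IsRInv
  rw [comul_X, map_sum, Fin.sum_univ_two]
  simp only [LinearMap.lTensor_tmul, AlgHom.toLinearMap_apply]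
  unfold piU
  rw [uPt_X, uPt_X]
  simp [uMat]

end A

section Chart

variable {k : Type u} [Field k]

/-- evaluation of the localisation at a point where `x` does not vanish. -/
noncomputable def evL (x : MvPolynomial (Fin 2) k) (v : Fin 2 → k)
    (hv : IsUnit (MvPolynomial.aeval v x : k)) : Localization.Away x →ₐ[k] k :=
  IsLocalization.Away.liftAlgHom x (f := MvPolynomial.aeval v) hv

theorem evL_algebraMap (x : MvPolynomial (Fin 2) k) (v : Fin 2 → k)
    (hv : IsUnit (MvPolynomial.aeval v x : k)) (p : MvPolynomial (Fin 2) k) :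
    evL x v hv (algebraMap _ _ p) = MvPolynomial.aeval v p := by
  unfold evL
  rw [IsLocalization.Away.liftAlgHom_apply, IsLocalization.Away.lift_eq]
  rfl

theorem evL_invSelf (x : MvPolynomial (Fin 2) k) (v : Fin 2 → k)
    (hv : IsUnit (MvPolynomial.aeval v x : k)) :
    evL x v hv (IsLocalization.Away.invSelf x) = (MvPolynomial.aeval v x : k)⁻¹ := by
  have h := congrArg (evL x v hv) (IsLocalization.Away.mul_invSelf (S := Localization.Away x) x)
  rw [map_mul, map_one, evL_algebraMap] at h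
  exact eq_inv_of_mul_eq_one_right h

theorem chart (f : SLn 2 k) (x : MvPolynomial (Fin 2) k)
    (N : Matrix (Fin 2) (Fin 2) (Localization.Away x)) (hN : N.det = 1) :
    ∃ (n : ℕ) (G : MvPolynomial (Fin 2) k), ∀ (v : Fin 2 → k)
      (hv : IsUnit (MvPolynomial.aeval v x : k)) (hd : ((evL x v hv).mapMatrix N).det = 1),
      SLn.pt 2 k ((evL x v hv).mapMatrix N) hd f * (MvPolynomial.aeval v x) ^ n =
        MvPolynomial.aeval v G := by
  obtain ⟨n, G, h⟩ := IsLocalization.Away.surj x (SLn.pt 2 k N hN f)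
  refine ⟨n, G, fun v hv hd => ?_⟩
  have h1 := comp_pt (k := k) (evL x v hv) N hN
  have h2 : SLn.pt 2 k ((evL x v hv).mapMatrix N) hd f = evL x v hv (SLn.pt 2 k N hN f) := by
    rw [← AlgHom.comp_apply, h1]
  rw [h2, ← evL_algebraMap x v hv x, ← map_pow, ← map_mul, h, evL_algebraMap]

end Chart

section Main

variable {k : Type u} [Field k]

open MvPolynomial in
theorem vec_eta (v : Fin 2 → k) : ![v 0, v 1] = v := by
  funext i
  fin_cases i <;> rfl

/-- the first chart matrix. -/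
noncomputable def N₁ : Matrix (Fin 2) (Fin 2) (Localization.Away (MvPolynomial.X 0 : MvPolynomial (Fin 2) k)) :=
  !![algebraMap _ _ (MvPolynomial.X 0 : MvPolynomial (Fin 2) k), 0;
     algebraMap _ _ (MvPolynomial.X 1 : MvPolynomial (Fin 2) k),
     IsLocalization.Away.invSelf (MvPolynomial.X 0 : MvPolynomial (Fin 2) k)]

theorem det_N₁ : (N₁ (k := k)).det = 1 := by
  simp [N₁, Matrix.det_fin_two]

/-- the second chart matrix. -/
noncomputable def N₂ : Matrix (Fin 2) (Fin 2) (Localization.Away (MvPolynomial.X 1 : MvPolynomial (Fin 2) k)) :=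
  !![algebraMap _ _ (MvPolynomial.X 0 : MvPolynomial (Fin 2) k),
     - IsLocalization.Away.invSelf (MvPolynomial.X 1 : MvPolynomial (Fin 2) k);
     algebraMap _ _ (MvPolynomial.X 1 : MvPolynomial (Fin 2) k), 0]

theorem det_N₂ : (N₂ (k := k)).det = 1 := by
  simp [N₂, Matrix.det_fin_two]
  rw [mul_comm]
  exact IsLocalization.Away.mul_invSelf _

theorem det_matOf' (g : SLn 2 k →ₐ[k] k) :
    g (SLn.X 0 0) * g (SLn.X 1 1) - g (SLn.X 0 1) * g (SLn.X 1 0) = 1 := by
  have := det_matOf g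
  rw [Matrix.det_fin_two] at this
  exact this

theorem mapMatrix_N₁ (g : SLn 2 k →ₐ[k] k) (hα : g (SLn.X 0 0) ≠ 0)
    (hv : IsUnit (MvPolynomial.aeval ![g (SLn.X 0 0), g (SLn.X 1 0)]
      (MvPolynomial.X 0 : MvPolynomial (Fin 2) k) : k)) :
    (evL _ ![g (SLn.X 0 0), g (SLn.X 1 0)] hv).mapMatrix N₁ =
      matOf g * uMat (- g (SLn.X 0 1) / g (SLn.X 0 0)) := by
  have hd := det_matOf' g
  ext i j
  fin_cases i <;> fin_cases j
  · simp [N₁, matOf, uMat, Matrix.mul_apply, Fin.sum_univ_two, evL_algebraMap]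
  · simp [N₁, matOf, uMat, Matrix.mul_apply, Fin.sum_univ_two, evL_algebraMap]
    field_simp
    ring
  · simp [N₁, matOf, uMat, Matrix.mul_apply, Fin.sum_univ_two, evL_algebraMap]
  · simp [N₁, matOf, uMat, Matrix.mul_apply, Fin.sum_univ_two, evL_algebraMap, evL_invSelf]
    field_simp
    linear_combination (-1 : k) * hd

theorem mapMatrix_N₂ (g : SLn 2 k →ₐ[k] k) (hγ : g (SLn.X 1 0) ≠ 0)
    (hv : IsUnit (MvPolynomial.aeval ![g (SLn.X 0 0), g (SLn.X 1 0)]
      (MvPolynomial.X 1 : MvPolynomial (Fin 2) k) : k)) :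
    (evL _ ![g (SLn.X 0 0), g (SLn.X 1 0)] hv).mapMatrix N₂ =
      matOf g * uMat (- g (SLn.X 1 1) / g (SLn.X 1 0)) := by
  have hd := det_matOf' g
  ext i j
  fin_cases i <;> fin_cases j
  · simp [N₂, matOf, uMat, Matrix.mul_apply, Fin.sum_univ_two, evL_algebraMap]
  · simp [N₂, matOf, uMat, Matrix.mul_apply, Fin.sum_univ_two, evL_algebraMap, evL_invSelf]
    field_simp
    linear_combination (1 : k) * hd
  · simp [N₂, matOf, uMat, Matrix.mul_apply, Fin.sum_univ_two, evL_algebraMap]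
  · simp [N₂, matOf, uMat, Matrix.mul_apply, Fin.sum_univ_two, evL_algebraMap]
    field_simp
    ring

end Main

section Final

variable {k : Type u} [Field k]

theorem claim₁ (f : SLn 2 k) (hf : IsRInv (piU (k := k)) f) :
    ∃ (n : ℕ) (G : MvPolynomial (Fin 2) k), ∀ g : SLn 2 k →ₐ[k] k, g (SLn.X 0 0) ≠ 0 →
      g f * g (SLn.X 0 0) ^ n = MvPolynomial.aeval ![g (SLn.X 0 0), g (SLn.X 1 0)] G := by
  obtain ⟨n, G, h⟩ := chart f _ (N₁ (k := k)) det_N₁
  refine ⟨n, G, fun g hα => ?_⟩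
  have hv : IsUnit (MvPolynomial.aeval ![g (SLn.X 0 0), g (SLn.X 1 0)]
      (MvPolynomial.X 0 : MvPolynomial (Fin 2) k) : k) := by
    rw [MvPolynomial.aeval_X]
    exact hα.isUnit
  have hmat := mapMatrix_N₁ g hα hv
  have hd : ((evL _ ![g (SLn.X 0 0), g (SLn.X 1 0)] hv).mapMatrix N₁).det = 1 := by
    rw [← AlgHom.map_det, det_N₁, map_one]
  have h1 := h _ hv hd
  have hd' : (matOf g * uMat (- g (SLn.X 0 1) / g (SLn.X 0 0))).det = 1 := by
    rw [← hmat]; exact hd
  have h2 : SLn.pt 2 k _ hd f = g f := by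
    rw [pt_congr hmat hd hd', pt_mul_uMat_apply f hf (matOf g) (det_matOf g), ← eq_pt_matOf]
  rw [h2, MvPolynomial.aeval_X] at h1
  exact h1

theorem claim₂ (f : SLn 2 k) (hf : IsRInv (piU (k := k)) f) :
    ∃ (n : ℕ) (G : MvPolynomial (Fin 2) k), ∀ g : SLn 2 k →ₐ[k] k, g (SLn.X 1 0) ≠ 0 →
      g f * g (SLn.X 1 0) ^ n = MvPolynomial.aeval ![g (SLn.X 0 0), g (SLn.X 1 0)] G := by
  obtain ⟨n, G, h⟩ := chart f _ (N₂ (k := k)) det_N₂
  refine ⟨n, G, fun g hγ => ?_⟩
  have hv : IsUnit (MvPolynomial.aeval ![g (SLn.X 0 0), g (SLn.X 1 0)]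
      (MvPolynomial.X 1 : MvPolynomial (Fin 2) k) : k) := by
    rw [MvPolynomial.aeval_X]
    exact hγ.isUnit
  have hmat := mapMatrix_N₂ g hγ hv
  have hd : ((evL _ ![g (SLn.X 0 0), g (SLn.X 1 0)] hv).mapMatrix N₂).det = 1 := by
    rw [← AlgHom.map_det, det_N₂, map_one]
  have h1 := h _ hv hd
  have hd' : (matOf g * uMat (- g (SLn.X 1 1) / g (SLn.X 1 0))).det = 1 := by
    rw [← hmat]; exact hd
  have h2 : SLn.pt 2 k _ hd f = g f := by
    rw [pt_congr hmat hd hd', pt_mul_uMat_apply f hf (matOf g) (det_matOf g), ← eq_pt_matOf]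
  rw [h2, MvPolynomial.aeval_X] at h1
  exact h1

/-- for nonzero `α`, a point of `SL_2` with first column `(α, γ)`. -/
noncomputable def colPt (α γ : k) (hα : α ≠ 0) : SLn 2 k →ₐ[k] k :=
  SLn.pt 2 k !![α, 0; γ, α⁻¹] (by simp [Matrix.det_fin_two, hα])

theorem colPt_X00 (α γ : k) (hα : α ≠ 0) : colPt α γ hα (SLn.X 0 0) = α := by
  unfold colPt; rw [SLn.pt_X]; rfl

theorem colPt_X10 (α γ : k) (hα : α ≠ 0) : colPt α γ hα (SLn.X 1 0) = γ := by
  unfold colPt; rw [SLn.pt_X]; rfl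

theorem exists_poly [IsAlgClosed k] (f : SLn 2 k) (hf : IsRInv (piU (k := k)) f) :
    ∃ r : MvPolynomial (Fin 2) k, ∀ g : SLn 2 k →ₐ[k] k,
      g f = MvPolynomial.aeval ![g (SLn.X 0 0), g (SLn.X 1 0)] r := by
  obtain ⟨n₁, G₁, h₁⟩ := claim₁ f hf
  obtain ⟨n₂, G₂, h₂⟩ := claim₂ f hf
  have hX0 : (MvPolynomial.X 0 : MvPolynomial (Fin 2) k) ≠ 0 := MvPolynomial.X_ne_zero 0
  have hX1 : (MvPolynomial.X 1 : MvPolynomial (Fin 2) k) ≠ 0 := MvPolynomial.X_ne_zero 1
  -- the polynomial identity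
  have hid : G₁ * MvPolynomial.X 1 ^ n₂ = G₂ * MvPolynomial.X 0 ^ n₁ := by
    have h0 : MvPolynomial.X 0 * MvPolynomial.X 1 *
        (G₁ * MvPolynomial.X 1 ^ n₂ - G₂ * MvPolynomial.X 0 ^ n₁) = 0 := by
      apply MvPolynomial.funext
      intro v
      simp only [map_mul, map_sub, map_pow, MvPolynomial.eval_X, map_zero]
      by_cases hv0 : v 0 = 0
      · rw [hv0]; ring
      by_cases hv1 : v 1 = 0
      · rw [hv1]; ring
      have e1 := h₁ (colPt (v 0) (v 1) hv0) (by rw [colPt_X00]; exact hv0)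
      have e2 := h₂ (colPt (v 0) (v 1) hv0) (by rw [colPt_X10]; exact hv1)
      rw [colPt_X00, colPt_X10, vec_eta] at e1 e2
      have e1' : MvPolynomial.eval v G₁ = colPt (v 0) (v 1) hv0 f * v 0 ^ n₁ := by
        rw [e1]; rfl
      have e2' : MvPolynomial.eval v G₂ = colPt (v 0) (v 1) hv0 f * v 1 ^ n₂ := by
        rw [e2]; rfl
      rw [e1', e2']
      ring
    rcases mul_eq_zero.1 h0 with h | h
    · exact absurd h (mul_ne_zero hX0 hX1)
    · exact sub_eq_zero.1 h
  -- divisibility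
  have hprime : Prime (MvPolynomial.X 0 : MvPolynomial (Fin 2) k) := MvPolynomial.X_prime
  have hnd : ¬ (MvPolynomial.X 0 : MvPolynomial (Fin 2) k) ∣ MvPolynomial.X 1 ^ n₂ := by
    intro h
    have h' := hprime.dvd_of_dvd_pow h
    obtain ⟨q, hq⟩ := h'
    have := congrArg (MvPolynomial.eval ![(0 : k), 1]) hq
    simp at this
  have hdvd : MvPolynomial.X 0 ^ n₁ ∣ G₁ :=
    hprime.pow_dvd_of_dvd_mul_right n₁ hnd ⟨G₂, by rw [hid]; ring⟩
  obtain ⟨r, hr⟩ := hdvd
  have hG₂ : G₂ = r * MvPolynomial.X 1 ^ n₂ := by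
    have h3 : MvPolynomial.X 0 ^ n₁ * G₂ = MvPolynomial.X 0 ^ n₁ * (r * MvPolynomial.X 1 ^ n₂) := by
      rw [mul_comm _ G₂, ← hid, hr]; ring
    exact mul_left_cancel₀ (pow_ne_zero _ hX0) h3
  refine ⟨r, fun g => ?_⟩
  by_cases hα : g (SLn.X 0 0) = 0
  · have hγ : g (SLn.X 1 0) ≠ 0 := by
      intro h
      have := det_matOf' g
      rw [hα, h] at this
      simp at this
    have e2 := h₂ g hγ
    rw [hG₂, map_mul, map_pow, MvPolynomial.aeval_X] at e2
    simp only [Matrix.cons_val_one, Matrix.cons_val_zero] at e2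
    exact mul_right_cancel₀ (pow_ne_zero _ hγ) e2
  · have e1 := h₁ g hα
    rw [hr, map_mul, map_pow, MvPolynomial.aeval_X] at e1
    simp only [Matrix.cons_val_zero] at e1
    rw [mul_comm (g (SLn.X 0 0) ^ n₁)] at e1
    exact mul_right_cancel₀ (pow_ne_zero _ hα) e1

theorem invSub_piU_le [IsAlgClosed k] [CharZero k] :
    invSub (piU (k := k)) ≤
      Algebra.adjoin k ({(SLn.X 0 0 : SLn 2 k), (SLn.X 1 0 : SLn 2 k)} : Set (SLn 2 k)) := by
  intro f hf
  rw [mem_invSub_iff] at hf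
  obtain ⟨r, hr⟩ := exists_poly f hf
  haveI : Algebra.FiniteType k (SLn 2 k) := Groth.Agent.Lib.Helper91.FormsOrbit.finiteType_SLn k 2
  haveI : IsReduced (SLn 2 k) := Groth.Agent.Lib.Helper84.HopfCartier.isReduced_of_charZero k (SLn 2 k)
  have hfr : f = MvPolynomial.aeval ![(SLn.X 0 0 : SLn 2 k), (SLn.X 1 0 : SLn 2 k)] r := by
    by_contra hne
    have hne' : f - MvPolynomial.aeval ![(SLn.X 0 0 : SLn 2 k), (SLn.X 1 0 : SLn 2 k)] r ≠ 0 :=
      sub_ne_zero.2 hne
    have hnil : ¬ IsNilpotent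
        (f - MvPolynomial.aeval ![(SLn.X 0 0 : SLn 2 k), (SLn.X 1 0 : SLn 2 k)] r) :=
      fun h => hne' h.eq_zero
    obtain ⟨g, hg⟩ := Groth.Agent.Lib.Helper84.HopfFFTrans.exists_point_ne_zero k (SLn 2 k) _ hnil
    apply hg
    rw [map_sub, hr g, sub_eq_zero]
    have : g.comp (MvPolynomial.aeval ![(SLn.X 0 0 : SLn 2 k), (SLn.X 1 0 : SLn 2 k)]) =
        MvPolynomial.aeval ![g (SLn.X 0 0), g (SLn.X 1 0)] := by
      apply MvPolynomial.algHom_ext
      intro i
      fin_cases i <;> simp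
    rw [← this]
    rfl
  rw [hfr]
  have h1 : MvPolynomial.aeval ![(SLn.X 0 0 : SLn 2 k), (SLn.X 1 0 : SLn 2 k)] r ∈
      (MvPolynomial.aeval (R := k) ![(SLn.X 0 0 : SLn 2 k), (SLn.X 1 0 : SLn 2 k)]).range :=
    ⟨r, rfl⟩
  rw [← Algebra.adjoin_range_eq_range_aeval] at h1
  refine Algebra.adjoin_mono ?_ h1
  rintro _ ⟨i, rfl⟩
  fin_cases i <;> simp

theorem invSub_piU_fg [IsAlgClosed k] [CharZero k] : (invSub (piU (k := k))).FG := by
  have h : invSub (piU (k := k)) =
      Algebra.adjoin k ({(SLn.X 0 0 : SLn 2 k), (SLn.X 1 0 : SLn 2 k)} : Set (SLn 2 k)) := by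
    apply le_antisymm invSub_piU_le
    apply Algebra.adjoin_le
    rintro x (rfl | rfl)
    · exact X_col0_mem 0
    · exact X_col0_mem 1
  rw [h]
  exact Subalgebra.fg_def.2 ⟨_, Set.toFinite _, rfl⟩

end Final

end Groth.Agent.Lib.Helper84.Weitz
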