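import Mathlib
import Groth.Agent.S18983
import Groth.Agent.Lib.Helper84.Weitz.Block

/-!
# Every nilpotent matrix is the differential of a corepresentation of `SL_2` (helper84)
-/

set_option autoImplicit false
set_option linter.unusedSectionVars false
universe u v w
open TensorProduct WithConv CoordGrp Polynomial

namespace Groth.Agent.Lib.Helper84.Weitz

section General

variable {k : Type u} [CommRing k]

theorem IsCorep.reindex {O : Type v} [CommRing O] [Bialgebra k O] {ι ι' : Type*} [Fintype ι]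
    [DecidableEq ι] [Fintype ι'] [DecidableEq ι'] {m : Matrix ι ι O} (hm : IsCorep k m)
    (e : ι' ≃ ι) : IsCorep k (m.submatrix e e) := by
  refine ⟨fun i j => ?_, fun i j => ?_⟩
  · simp only [Matrix.submatrix_apply]
    rw [hm.comul]
    exact (Equiv.sum_comp e (fun l => m (e i) l ⊗ₜ[k] m l (e j))).symm
  · simp only [Matrix.submatrix_apply]
    rw [hm.counit]
    simp [e.injective.eq_iff]

theorem dmat_submatrix {ι ι' : Type*} (m : Matrix ι ι (SLn 2 k)) (e : ι' → ι) :
    dmat (m.submatrix e e) = (dmat m).submatrix e e := rfl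

theorem dmat_blockDiagonal' {o : Type*} [DecidableEq o] {κ : o → Type*}
    (B : ∀ i, Matrix (κ i) (κ i) (SLn 2 k)) :
    dmat (Matrix.blockDiagonal' B) = Matrix.blockDiagonal' (fun i => dmat (B i)) := by
  ext ⟨i, a⟩ ⟨i', c⟩
  by_cases h : i = i'
  · subst h
    simp [dmat, Matrix.blockDiagonal'_apply_eq]
  · simp [dmat, Matrix.blockDiagonal'_apply_ne _ _ _ h]

theorem dmat_conj {ι ι' : Type*} [Fintype ι] [DecidableEq ι] [Fintype ι'] [DecidableEq ι']
    (m : Matrix ι ι (SLn 2 k)) (P : Matrix ι' ι k) (Q : Matrix ι ι' k) :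
    dmat (P.map (algebraMap k (SLn 2 k)) * m * Q.map (algebraMap k (SLn 2 k))) =
      P * dmat m * Q := by
  ext i j
  simp only [dmat, Matrix.mul_apply, Matrix.map_apply, map_sum, map_mul, AlgHom.commutes,
    Polynomial.algebraMap_eq, Polynomial.finset_sum_coeff, Finset.sum_mul, Polynomial.coeff_C_mul,
    Polynomial.coeff_mul_C]

end General

section BlkF

variable {k : Type u} [CommRing k]

/-- the corepresentation on binary forms of degree `d`, indexed by `Fin (d + 1)`. -/
noncomputable def blkF (d : ℕ) : Matrix (Fin (d + 1)) (Fin (d + 1)) (SLn 2 k) :=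
  (blk (k := k) d).submatrix (binEquiv d) (binEquiv d)

theorem isCorep_blkF (d : ℕ) : IsCorep k (blkF (k := k) d) :=
  (isCorep_blk d).reindex (binEquiv d)

theorem dmat_blkF (d : ℕ) (a c : Fin (d + 1)) :
    dmat (blkF (k := k) d) a c = if (a : ℕ) + 1 = (c : ℕ) then ((c : ℕ) : k) else 0 := by
  unfold blkF
  rw [dmat_submatrix, Matrix.submatrix_apply, dmat_blk]
  simp

end BlkF

section Main

variable {k : Type u} [Field k] [CharZero k]

theorem isInternal_unit_top (V : Type*) [AddCommGroup V] [Module k V] :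
    DirectSum.IsInternal (fun _ : Unit => (⊤ : Submodule k V)) := by
  apply DirectSum.isInternal_submodule_of_iSupIndep_of_iSup_eq_top
  · intro i
    have : (⨆ (j : Unit) (_ : j ≠ i), (⊤ : Submodule k V)) = ⊥ := by
      apply le_antisymm _ bot_le
      refine iSup_le fun j => iSup_le fun hj => ?_
      exact absurd (Subsingleton.elim j i) hj
    rw [this]
    exact disjoint_bot_right
  · exact le_antisymm le_top (le_iSup (fun _ : Unit => (⊤ : Submodule k V)) ())

/-- the block nilpotent matrix. -/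
noncomputable def Nblk {ι : Type*} [DecidableEq ι] (nn : ι → ℕ) :
    Matrix (Σ i : ι, Fin (nn i + 1)) (Σ i : ι, Fin (nn i + 1)) k :=
  Matrix.blockDiagonal' (fun i => dmat (blkF (k := k) (nn i)))

theorem Nblk_apply {ι : Type*} [DecidableEq ι] (nn : ι → ℕ) (x y : Σ i : ι, Fin (nn i + 1)) :
    Nblk (k := k) nn x y =
      if x.1 = y.1 ∧ (x.2 : ℕ) + 1 = (y.2 : ℕ) then ((y.2 : ℕ) : k) else 0 := by
  obtain ⟨i, a⟩ := x
  obtain ⟨i', c⟩ := y
  unfold Nblk
  by_cases h : i = i'
  · subst h
    rw [Matrix.blockDiagonal'_apply_eq, dmat_blkF]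
    simp
  · rw [Matrix.blockDiagonal'_apply_ne _ _ _ h]
    simp [h]

theorem exists_corep (n : ℕ) (M : Matrix (Fin n) (Fin n) k) (hM : IsNilpotent M) :
    ∃ m : Matrix (Fin n) (Fin n) (SLn 2 k), IsCorep k m ∧ dmat m = M := by
  classical
  let A : Module.End k (Fin n → k) := Matrix.toLinAlgEquiv' M
  have hA : IsNilpotent A :=
    hM.map (Matrix.toLinAlgEquiv' : Matrix (Fin n) (Fin n) k ≃ₐ[k] _)
  have hAv : ∀ v : Fin n → k, A v = M.mulVec v := fun v => rfl
  obtain ⟨ι, hι, nn, b, -, h0, hs⟩ := Groth.Agent.S18983.result k Unit (Fin n → k)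
    (fun _ => ⊤) (isInternal_unit_top (k := k) (Fin n → k)) A hA 0
    (fun _ _ _ => Submodule.mem_top)
  haveI : Fintype ι := Fintype.ofFinite ι
  -- rescaled basis
  have hw : ∀ x : (Σ i : ι, Fin (nn i + 1)), IsUnit (((x.2 : ℕ).factorial : ℕ) : k) := fun x =>
    (Nat.cast_ne_zero.2 (Nat.factorial_ne_zero _)).isUnit
  let b' : Module.Basis (Σ i : ι, Fin (nn i + 1)) k (Fin n → k) := b.isUnitSMul hw
  have hb' : ∀ x, b' x = (((x.2 : ℕ).factorial : ℕ) : k) • b x := fun x =>
    Module.Basis.isUnitSMul_apply hw x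
  let P : Matrix (Fin n) (Σ i : ι, Fin (nn i + 1)) k := (Pi.basisFun k (Fin n)).toMatrix b'
  let Q : Matrix (Σ i : ι, Fin (nn i + 1)) (Fin n) k := b'.toMatrix (Pi.basisFun k (Fin n))
  have hPQ : P * Q = 1 := Module.Basis.toMatrix_mul_toMatrix_flip _ _
  have hQP : Q * P = 1 := Module.Basis.toMatrix_mul_toMatrix_flip _ _
  have hP : ∀ j x, P j x = b' x j := fun j x => by
    show (Pi.basisFun k (Fin n)).repr (b' x) j = _
    simp
  -- the key relation
  have hkey : ∀ y : (Σ i : ι, Fin (nn i + 1)), A (b' y) = ∑ x, Nblk (k := k) nn x y • b' x := by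
    rintro ⟨i, c⟩
    induction c using Fin.cases with
    | zero =>
      rw [hb', map_smul, h0, smul_zero]
      symm
      apply Finset.sum_eq_zero
      intro x _
      rw [Nblk_apply]
      simp
    | succ l =>
      rw [hb', map_smul, hs]
      rw [Finset.sum_eq_single (⟨i, l.castSucc⟩ : Σ i : ι, Fin (nn i + 1))]
      · rw [Nblk_apply, if_pos ⟨rfl, by simp⟩, hb', smul_smul]
        congr 1
        simp only [Fin.val_succ, Fin.val_castSucc]
        rw [Nat.factorial_succ]
        push_cast
        ring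
      · rintro ⟨i', a⟩ _ hne
        rw [Nblk_apply, if_neg, zero_smul]
        rintro ⟨h1, h2⟩
        simp only at h1
        subst h1
        apply hne
        congr 1
        apply Fin.ext
        simp only [Fin.val_succ, Fin.val_castSucc] at h2 ⊢
        omega
      · intro h
        exact absurd (Finset.mem_univ _) h
  have hMP : M * P = P * Nblk (k := k) nn := by
    ext j y
    rw [Matrix.mul_apply, Matrix.mul_apply]
    have h1 : ∑ j', M j j' * P j' y = (A (b' y)) j := by
      rw [hAv, Matrix.mulVec, dotProduct]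
      refine Finset.sum_congr rfl fun j' _ => ?_
      rw [hP]
    rw [h1, hkey, Finset.sum_apply]
    refine Finset.sum_congr rfl fun x _ => ?_
    rw [Pi.smul_apply, hP, smul_eq_mul, mul_comm]
  refine ⟨P.map (algebraMap k (SLn 2 k)) * Matrix.blockDiagonal' (fun i => blkF (k := k) (nn i)) *
    Q.map (algebraMap k (SLn 2 k)), ?_, ?_⟩
  · exact (IsCorep.blockDiagonal' _ (fun i => isCorep_blkF (nn i))).conj P Q hPQ hQP
  · rw [dmat_conj, dmat_blockDiagonal']
    show P * Nblk (k := k) nn * Q = M
    rw [← hMP, Matrix.mul_assoc, hPQ, Matrix.mul_one]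

end Main

end Groth.Agent.Lib.Helper84.Weitz
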